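import Groth.Agent.RpushColim.Qs
import Groth.Agent.RPushQC.AffineComp
import Groth.Agent.RDerLib.LES
import Groth.Agent.S0454

/-!
Higher direct images of abelian sheaves commute with filtered colimits.
-/

set_option autoImplicit false
set_option linter.style.haveILetI false
set_option linter.unusedSectionVars false
set_option backward.isDefEq.respectTransparency false
set_option backward.isDefEq.respectTransparency.types false

universe u

open CategoryTheory Category Limits Opposite TopologicalSpace AlgebraicGeometry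
open Groth.Agent.TopPullModel Groth.Agent.TopCompact
open Groth.Agent.TopQC (exists_eq_zero god0 godUnit dsc)

noncomputable section

namespace Groth.Agent.RpushColim

theorem isFlasque_god0 {Z : TopCat.{u}} (G : CohTop.Ab Z) : TopCat.Sheaf.IsFlasque ((god0 Z).obj G) := by
  haveI : DiscreteTopology ↑((forget TopCat.{u} ⋙ TopCat.discrete).obj Z) := ⟨rfl⟩
  haveI : TopCat.Sheaf.IsFlasque ((mfun (dsc Z)).obj G) := CohTopX.isFlasque_of_discrete _
  exact TopCat.Sheaf.IsFlasque.pushforward_isFlasque ((mfun (dsc Z)).obj G) (dsc Z)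

theorem mono_godUnit {Z : TopCat.{u}} (G : CohTop.Ab Z) : Mono ((godUnit Z).app G) := by
  refine (sheafToPresheaf (Opens.grothendieckTopology Z) AddCommGrpCat.{u}).mono_of_mono_map ?_
  refine @NatTrans.mono_of_mono_app _ _ _ _ _ _ _ fun V => (AddCommGrpCat.mono_iff_injective _).2 fun a b e => ?_
  refine gm_ext G V.unop a b fun x hx => ?_
  exact congrArg (fun t : secs (dsc Z) G ((Opens.map (dsc Z)).obj V.unop) => t.1 ⟨x, hx⟩ ⟨x, rfl⟩) e

variable {X S : Scheme.{u}} (f : X ⟶ S) [QuasiCompact f] [QuasiSeparated f]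

/-- preimages of affine opens are quasi-compact and quasi-separated -/
theorem qsC_preimage {V : S.Opens} (hV : IsAffineOpen V) : QsC (X := X.carrier) (f ⁻¹ᵁ V) :=
  ⟨f.isCompact_preimage hV.isCompact, fun A B hA hB hAc hBc =>
    f.isQuasiSeparated_preimage hV.isQuasiSeparated _ _ hA A.2 hAc hB B.2 hBc⟩

/-- direct images of short exact sequences with qs-flasque kernel stay epi -/
theorem epi_push_map {T : ShortComplex (CohTop.Ab X.carrier)} (hT : T.ShortExact) (h₁ : IsQsFlasque T.X₁) :
    Epi ((Coh.pushAb f).map T.g) := by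
  refine (Sheaf.isLocallySurjective_iff_epi' AddCommGrpCat.{u} ((Coh.pushAb f).map T.g)).1 ⟨fun {U} s y hy => ?_⟩
  obtain ⟨V, hV, hyV, hVU⟩ := exists_isAffineOpen_mem_and_subset (X := S) (x := y) (U := U) hy
  exact ⟨V, homOfLE hVU, surjective_app hT h₁ (f ⁻¹ᵁ V) (qsC_preimage f hV) _, hyV⟩

/-- qs-flasque sheaves are acyclic for direct images -/
theorem isZero_rpushAb : ∀ (n : ℕ) (G : CohTop.Ab X.carrier), IsQsFlasque G →
    IsZero ((Coh.RpushAb f (n + 1)).obj G) := by
  intro n
  induction n with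
  | zero =>
    intro G hG
    let Δ := RDerLib.derivedLES (Coh.pushAb f)
    let T : ShortComplex (CohTop.Ab X.carrier) :=
      ShortComplex.mk (Injective.ι G) (cokernel.π (Injective.ι G)) (cokernel.condition _)
    have hT : T.ShortExact := { exact := ShortComplex.exact_cokernel (Injective.ι G) }
    haveI : Injective T.X₂ := inferInstanceAs (Injective (Injective.under G))
    haveI := epi_push_map f hT hG
    haveI : Epi ((Coh.RpushAb f 0).map T.g) := by
      have e := (Coh.pushAb f).rightDerivedZeroIsoSelf.hom.naturality T.g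
      rw [show (Coh.RpushAb f 0).map T.g = (Coh.pushAb f).rightDerivedZeroIsoSelf.hom.app T.X₂ ≫
        (Coh.pushAb f).map T.g ≫ (Coh.pushAb f).rightDerivedZeroIsoSelf.inv.app T.X₃ by
          rw [← reassoc_of% e, Iso.hom_inv_id_app, comp_id]]
      infer_instance
    have hδ : Δ.δ T hT 0 1 rfl = 0 := zero_of_epi_comp _ (Δ.comp_δ T hT 0 1 rfl)
    exact (Δ.exact₁ T hT 0 1 rfl).isZero_of_both_zeros hδ
      (((Coh.pushAb f).isZero_rightDerived_obj_injective_succ 0 T.X₂).eq_of_tgt _ _)
  | succ n ih =>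
    intro G hG
    let Δ := RDerLib.derivedLES (Coh.pushAb f)
    let T : ShortComplex (CohTop.Ab X.carrier) :=
      ShortComplex.mk (Injective.ι G) (cokernel.π (Injective.ι G)) (cokernel.condition _)
    have hT : T.ShortExact := { exact := ShortComplex.exact_cokernel (Injective.ι G) }
    haveI : Injective T.X₂ := inferInstanceAs (Injective (Injective.under G))
    haveI : TopCat.Sheaf.IsFlasque T.X₂ := S0454.result T.X₂
    exact (Δ.exact₁ T hT (n + 1) (n + 1 + 1) rfl).isZero_of_both_zeros
      ((ih T.X₃ (isQsFlasque_quotient hT hG (isQsFlasque_of_flasque T.X₂))).eq_of_src _ _)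
      (((Coh.pushAb f).isZero_rightDerived_obj_injective_succ (n + 1) T.X₂).eq_of_tgt _ _)

variable (ι : Type u) [Preorder ι] [IsDirected ι (· ≤ ·)] [Nonempty ι]

/-- direct images commute with directed colimits -/
theorem preservesColimitsOfShape_push : PreservesColimitsOfShape ι (Coh.pushAb f) := by
  refine ⟨fun {F} => preservesColimit_of_preserves_colimit_cocone (colimit.isColimit F) ?_⟩
  classical
  let P := Coh.pushAb f
  let c' := colimit.cocone (F ⋙ P)
  let φ : c'.pt ⟶ (P.mapCocone (colimit.cocone F)).pt := colimit.desc (F ⋙ P) (P.mapCocone (colimit.cocone F))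
  have hφ : ∀ i, c'.ι.app i ≫ φ = P.map (colimit.ι F i) := fun i => colimit.ι_desc _ i
  have happ : ∀ i (O : S.Opens) (s : (F.obj i).obj.obj (op (f ⁻¹ᵁ O))) (y : S) (hy : y ∈ O),
      stMap φ y (stMap (c'.ι.app i) y (gm ((F ⋙ P).obj i) O y hy s)) =
        gm (P.obj (colimit F)) O y hy ((colimit.ι F i).hom.app (op (f ⁻¹ᵁ O)) s) := fun i O s y hy => by
    refine (congrArg (stMap φ y) (stMap_gm (c'.ι.app i) O y hy s)).trans ((stMap_gm φ O y hy _).trans ?_)
    refine congrArg (gm (P.obj (colimit F)) O y hy) ?_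
    exact congrArg (fun ψ : (F ⋙ P).obj i ⟶ P.obj (colimit F) => ψ.hom.app (op O) s) (hφ i)
  have hbij : ∀ y : S, Function.Bijective (stMap φ y) := fun y => by
    refine ⟨(injective_iff_map_eq_zero _).2 fun a ha => ?_, fun b => ?_⟩
    · obtain ⟨i, a, rfl⟩ := TopQC.exists_stalk_rep (colimit.isColimit (F ⋙ P)) y a
      obtain ⟨O, hyO, s, rfl⟩ := exists_gm_eq ((F ⋙ P).obj i) a
      rw [happ i O s y hyO, ← map_zero (gm (P.obj (colimit F)) O y hyO)] at ha
      obtain ⟨M, hM, hMO, -, hMe⟩ := exists_eq_near (P.obj (colimit F)) _ _ {y} (by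
        intro z hz
        obtain rfl : y = z := (show z = y from hz).symm
        exact ⟨hyO, hyO, ha⟩)
      obtain ⟨V, hV, hyV, hVM⟩ := exists_isAffineOpen_mem_and_subset (X := S) (x := y) (U := M) (hM rfl)
      have hVO : V ≤ O := fun z hz => hMO (hVM hz)
      let sV : (F.obj i).obj.obj (op (f ⁻¹ᵁ V)) := ((F ⋙ P).obj i).obj.map (homOfLE hVO).op s
      have h0 : (colimit.ι F i).hom.app (op (f ⁻¹ᵁ V)) sV = 0 := by
        show (P.map (colimit.ι F i)).hom.app (op V) (((F ⋙ P).obj i).obj.map (homOfLE hVO).op s) = 0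
        refine gm_ext (P.obj (colimit F)) V _ _ fun z hz => ?_
        refine Eq.trans ?_ (map_zero _).symm
        refine ((stMap_gm (P.map (colimit.ι F i)) V z hz _).symm.trans
          ((congrArg _ (gm_res (P.obj (F.obj i)) hVO z hz s)).trans (stMap_gm (P.map (colimit.ι F i)) O z (hVO hz) s))).trans ?_
        exact (hMe z (hVO hz) (hVO hz) (hVM hz)).trans (map_zero _)
      obtain ⟨j, hij, hj⟩ := exists_eq_zero (X := X.carrier) (colimit.isColimit F) (f ⁻¹ᵁ V)
        (f.isCompact_preimage hV.isCompact) i sV h0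
      rw [← gm_res ((F ⋙ P).obj i) hVO y hyV s]
      refine (congrArg (fun k : (F ⋙ P).obj i ⟶ c'.pt => stMap k y (gm ((F ⋙ P).obj i) V y hyV sV))
        (c'.w (homOfLE hij)).symm).trans ?_
      change stMap ((F ⋙ P).map (homOfLE hij) ≫ c'.ι.app j) y (gm ((F ⋙ P).obj i) V y hyV sV) = 0
      rw [stMap_gm]
      change gm c'.pt V y hyV ((c'.ι.app j).hom.app (op V) ((F.map (homOfLE hij)).hom.app (op (f ⁻¹ᵁ V)) sV)) = 0
      rw [hj]
      exact (congrArg _ (map_zero _)).trans (map_zero _)
    · obtain ⟨O, hyO, t, rfl⟩ := exists_gm_eq (P.obj (colimit F)) b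
      obtain ⟨V, hV, hyV, hVO⟩ := exists_isAffineOpen_mem_and_subset (X := S) (x := y) (U := O) hyO
      obtain ⟨i, s, hs⟩ := exists_preimage (X := X.carrier) (colimit.isColimit F) (f ⁻¹ᵁ V) (qsC_preimage f hV)
        ((P.obj (colimit F)).obj.map (homOfLE hVO).op t)
      refine ⟨stMap (c'.ι.app i) y (gm ((F ⋙ P).obj i) V y hyV s), (happ i V s y hyV).trans ?_⟩
      exact (congrArg (gm (P.obj (colimit F)) V y hyV) hs).trans (gm_res _ _ y hyV t)
  haveI : ∀ y : S.carrier, IsIso ((TopCat.Presheaf.stalkFunctor AddCommGrpCat.{u} y).map φ.hom) := fun y =>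
    (ConcreteCategory.isIso_iff_bijective _).2 (hbij y)
  haveI : IsIso φ := TopCat.Presheaf.isIso_of_stalkFunctor_map_iso φ
  haveI : IsIso ((colimit.isColimit (F ⋙ P)).desc (P.mapCocone (colimit.cocone F))) := ‹IsIso φ›
  exact IsColimit.ofPointIso (colimit.isColimit (F ⋙ P))

set_option maxHeartbeats 1600000 in
theorem preservesColimitsOfShape_rpushAb : ∀ q : ℕ, PreservesColimitsOfShape ι (Coh.RpushAb f q) := by
  intro q
  induction q with
  | zero =>
    haveI := preservesColimitsOfShape_push f ι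
    exact preservesColimitsOfShape_of_natIso (Coh.pushAb f).rightDerivedZeroIsoSelf.symm
  | succ q ih =>
    refine ⟨fun {F} => preservesColimit_of_preserves_colimit_cocone (colimit.isColimit F) ?_⟩
    let Δ := RDerLib.derivedLES (Coh.pushAb f)
    let H := Coh.RpushAb f
    let η : F ⟶ F ⋙ god0 X.carrier := Functor.whiskerLeft F (godUnit X.carrier)
    haveI : ∀ i, Mono (η.app i) := fun i => mono_godUnit (F.obj i)
    haveI : Mono η := NatTrans.mono_of_mono_app η
    let T : ShortComplex (ι ⥤ CohTop.Ab X.carrier) := ShortComplex.mk η (cokernel.π η) (cokernel.condition η)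
    have hT : T.ShortExact := { exact := ShortComplex.exact_cokernel η }
    let Ti := fun i => T.map ((evaluation ι (CohTop.Ab X.carrier)).obj i)
    have hTi : ∀ i, (Ti i).ShortExact := fun i => hT.map_of_exact _
    haveI : PreservesFiniteLimits (colim : (ι ⥤ CohTop.Ab X.carrier) ⥤ _) :=
      HasExactColimitsOfShape.preservesFiniteLimits
    haveI : (colim : (ι ⥤ CohTop.Ab X.carrier) ⥤ CohTop.Ab X.carrier).Additive :=
      ⟨fun {A B a b} => colimit.hom_ext fun k => by simp⟩
    have hC : (T.map colim).ShortExact := hT.map_of_exact _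
    let h₀ : ∀ i, Ti i ⟶ T.map colim := fun i =>
      { τ₁ := colimit.ι T.X₁ i
        τ₂ := colimit.ι T.X₂ i
        τ₃ := colimit.ι T.X₃ i
        comm₁₂ := colimit.ι_map T.f i
        comm₂₃ := colimit.ι_map T.g i }
    let h₁ : ∀ {i j : ι} (g : i ⟶ j), Ti i ⟶ Ti j := fun {i j} g =>
      T.mapNatTrans ((evaluation ι (CohTop.Ab X.carrier)).map g)
    haveI he : ∀ i, Epi (Δ.δ (Ti i) (hTi i) q (q + 1) rfl) := fun i =>
      ((Δ.exact₁ (Ti i) (hTi i) q (q + 1) rfl).epi_f
        ((isZero_rpushAb f q _ (@isQsFlasque_of_flasque X.carrier ((F ⋙ god0 X.carrier).obj i)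
          (isFlasque_god0 (F.obj i)))).eq_of_tgt _ _))
    haveI hec : Epi (Δ.δ (T.map colim) hC q (q + 1) rfl) :=
      (Δ.exact₁ (T.map colim) hC q (q + 1) rfl).epi_f
        ((isZero_rpushAb f q _ (isQsFlasque_colimit (colimit.isColimit (F ⋙ god0 X.carrier)) fun i =>
          @isQsFlasque_of_flasque X.carrier ((F ⋙ god0 X.carrier).obj i) (isFlasque_god0 (F.obj i)))).eq_of_tgt _ _)
    have hnat : ∀ i, (H q).map (colimit.ι T.X₃ i) ≫ Δ.δ (T.map colim) hC q (q + 1) rfl =
        Δ.δ (Ti i) (hTi i) q (q + 1) rfl ≫ (H (q + 1)).map (colimit.ι F i) := fun i =>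
      Δ.δ_natural (hTi i) hC (h₀ i) q (q + 1) rfl
    let h2 := isColimitOfPreserves (H q) (colimit.isColimit T.X₂)
    let h3 := isColimitOfPreserves (H q) (colimit.isColimit T.X₃)
    let sc : ∀ s : Cocone (F ⋙ H (q + 1)), Cocone (T.X₃ ⋙ H q) := fun s =>
      { pt := s.pt
        ι :=
          { app := fun i => Δ.δ (Ti i) (hTi i) q (q + 1) rfl ≫ s.ι.app i
            naturality := fun i j g => by
              have e := Δ.δ_natural (hTi i) (hTi j) (h₁ g) q (q + 1) rfl
              have w := s.w g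
              dsimp at e w ⊢
              rw [comp_id, ← assoc]
              refine (congrArg (· ≫ s.ι.app j) e).trans ?_
              rw [assoc]
              exact congrArg _ w } }
    have hz : ∀ s, (H q).map (T.map colim).g ≫ h3.desc (sc s) = 0 := fun s => h2.hom_ext fun i => by
      rw [comp_zero]
      change (H q).map (colimit.ι T.X₂ i) ≫ (H q).map (T.map colim).g ≫ h3.desc (sc s) = 0
      have ec : (H q).map (colimit.ι T.X₂ i) ≫ (H q).map (T.map colim).g =
          (H q).map (Ti i).g ≫ (H q).map (colimit.ι T.X₃ i) :=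
        ((H q).map_comp _ _).symm.trans ((congrArg (H q).map (h₀ i).comm₂₃).trans ((H q).map_comp _ _)) 
      refine (assoc _ _ _).symm.trans ((congrArg (· ≫ h3.desc (sc s)) ec).trans ((assoc _ _ _).trans ?_))
      have e := h3.fac (sc s) i
      change (H q).map (colimit.ι T.X₃ i) ≫ h3.desc (sc s) = _ at e
      refine (congrArg _ e).trans ?_
      change _ ≫ Δ.δ (Ti i) (hTi i) q (q + 1) rfl ≫ s.ι.app i = 0
      rw [← assoc, Δ.comp_δ (Ti i) (hTi i) q (q + 1) rfl, zero_comp]
    exact
      { desc := fun s => (Δ.exact₃ (T.map colim) hC q (q + 1) rfl).desc (h3.desc (sc s)) (hz s)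
        fac := fun s i => by
          change (H (q + 1)).map (colimit.ι F i) ≫ _ = _
          rw [← cancel_epi (Δ.δ (Ti i) (hTi i) q (q + 1) rfl), ← assoc, ← hnat i, assoc,
            (Δ.exact₃ (T.map colim) hC q (q + 1) rfl).g_desc]
          exact h3.fac (sc s) i
        uniq := fun s m hm => by
          rw [← cancel_epi (Δ.δ (T.map colim) hC q (q + 1) rfl)]
          refine Eq.trans ?_ ((Δ.exact₃ (T.map colim) hC q (q + 1) rfl).g_desc _ _).symm
          refine h3.hom_ext fun i => ?_
          rw [h3.fac]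
          change (H q).map (colimit.ι T.X₃ i) ≫ Δ.δ (T.map colim) hC q (q + 1) rfl ≫ m = _
          rw [← assoc, hnat i, assoc]
          exact congrArg _ (hm i) }

/-- higher direct images of abelian sheaves commute with filtered colimits -/
theorem preservesColimitsOfShape_rpushAb_filtered (q : ℕ) (J : Type u) [SmallCategory J] [IsFiltered J] :
    PreservesColimitsOfShape J (Coh.RpushAb f q) := by
  obtain ⟨α, _, _, _, F, _⟩ := IsFiltered.exists_directed J
  haveI := preservesColimitsOfShape_rpushAb f α q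
  exact Functor.Final.preservesColimitsOfShape_of_final F _

end Groth.Agent.RpushColim

end
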