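import Groth.Agent.TopQC.Colim
import Mathlib.Topology.Spectral.Prespectral

/-!
Quasi-separated quasi-compact opens: lifting sections, sections of filtered colimits.
-/

set_option autoImplicit false
set_option linter.style.haveILetI false
set_option linter.unusedSectionVars false
set_option backward.isDefEq.respectTransparency false
set_option backward.isDefEq.respectTransparency.types false

universe u

open CategoryTheory Category Limits Opposite TopologicalSpace Abelian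
open Groth.Agent.TopPullModel Groth.Agent.TopCompact
open Groth.Agent.TopQC (exists_glue_res exists_preimage_section gm_ι exists_stalk_rep exists_eq_zero app_comp_apply cocone_apply god0 godUnit)

namespace Groth.Agent.RpushColim

variable {X : TopCat.{u}}

/-- quasi-compact quasi-separated opens -/
def QsC (U : Opens X) : Prop :=
  IsCompact (U : Set X) ∧ ∀ A B : Opens X, A ≤ U → B ≤ U → IsCompact (A : Set X) → IsCompact (B : Set X) →
    IsCompact ((A ⊓ B : Opens X) : Set X)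

theorem QsC.mono {U V : Opens X} (hU : QsC U) (h : V ≤ U) (hV : IsCompact (V : Set X)) : QsC V :=
  ⟨hV, fun A B hA hB => hU.2 A B (hA.trans h) (hB.trans h)⟩

/-- restrictions between quasi-compact quasi-separated opens are surjective -/
def IsQsFlasque (G : CohTop.Ab X) : Prop :=
  ∀ (U V : Opens X) (_ : QsC U) (_ : QsC V) (h : V ≤ U), Function.Surjective (G.obj.map (homOfLE h).op)

theorem isQsFlasque_of_flasque (G : CohTop.Ab X) [TopCat.Sheaf.IsFlasque G] : IsQsFlasque G :=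
  fun _ _ _ _ h t => res_surjective_of_flasque G h t

variable [PrespectralSpace X]

theorem exists_compact_le {U : Opens X} {x : X} (hx : x ∈ U) :
    ∃ W : Opens X, IsCompact (W : Set X) ∧ x ∈ W ∧ W ≤ U := by
  obtain ⟨W, ⟨hWo, hWc⟩, hxW, hWU⟩ :=
    PrespectralSpace.isTopologicalBasis.exists_subset_of_mem_open hx U.2
  exact ⟨⟨W, hWo⟩, hWc, hxW, hWU⟩

/-- Lifting sections over quasi-compact opens. -/
theorem surjective_app {S : ShortComplex (CohTop.Ab X)} (hS : S.ShortExact) (h₁ : IsQsFlasque S.X₁)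
    (U : Opens X) (hU : QsC U) : Function.Surjective (S.g.hom.app (op U)) := fun t => by
  classical
  have hloc : ∀ x : U, ∃ (W : Opens X) (hW : W ≤ U), IsCompact (W : Set X) ∧ x.1 ∈ W ∧
      ∃ s : S.X₂.obj.obj (op W), S.g.hom.app (op W) s = S.X₃.obj.map (homOfLE hW).op t := fun x => by
    obtain ⟨b, hb⟩ := (stk_shortExact hS x.1).2.2 (gm S.X₃ U x.1 x.2 t)
    obtain ⟨O, hxO, s, rfl⟩ := exists_gm_eq S.X₂ b
    rw [stMap_gm] at hb
    obtain ⟨M, hM, hMO, hMU, hMe⟩ := exists_eq_near S.X₃ (S.g.hom.app (op O) s) t {x.1} (by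
      intro y hy
      obtain rfl : x.1 = y := (show y = x.1 from hy).symm
      exact ⟨hxO, x.2, hb⟩)
    obtain ⟨W, hWc, hxW, hWM⟩ := exists_compact_le (hM rfl : x.1 ∈ M)
    refine ⟨W, hWM.trans hMU, hWc, hxW, S.X₂.obj.map (homOfLE (hWM.trans hMO)).op s, gm_ext S.X₃ W _ _ fun y hy => ?_⟩
    rw [← stMap_gm, gm_res, stMap_gm, gm_res]
    exact hMe y _ _ (hWM hy)
  choose W hWU hWc hxW s hs using hloc
  obtain ⟨F, hF⟩ := hU.1.elim_finite_subcover (fun x : U => (W x : Set X)) (fun x => (W x).2)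
    fun y hy => Set.mem_iUnion.2 ⟨⟨y, hy⟩, hxW ⟨y, hy⟩⟩
  have key : ∀ F : Finset U, IsCompact ((F.sup W : Opens X) : Set X) ∧ ∀ h : F.sup W ≤ U,
      ∃ r : S.X₂.obj.obj (op (F.sup W)), S.g.hom.app (op (F.sup W)) r = S.X₃.obj.map (homOfLE h).op t := by
    intro F
    induction F using Finset.induction with
    | empty =>
      rw [Finset.sup_empty]
      refine ⟨by simp, fun h => ⟨0, ?_⟩⟩
      rw [map_zero]
      exact gm_ext S.X₃ ⊥ _ _ fun x hx => hx.elim
    | insert a F ha ih =>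
      rw [Finset.sup_insert]
      obtain ⟨hFc, hFr⟩ := ih
      refine ⟨(hWc a).union hFc, fun h => ?_⟩
      obtain ⟨r, hr⟩ := hFr (le_sup_right.trans h)
      let B := F.sup W
      let AB : Opens X := W a ⊓ B
      have hABc : IsCompact (AB : Set X) :=
        hU.2 (W a) B (hWU a) (le_sup_right.trans h) (hWc a) hFc
      let d : S.X₂.obj.obj (op AB) := S.X₂.obj.map (homOfLE inf_le_right).op r -
        S.X₂.obj.map (homOfLE inf_le_left).op (s a)
      obtain ⟨e, he⟩ := exists_preimage_section hS AB d (gm_ext S.X₃ AB _ _ fun x hx => by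
        rw [← stMap_gm, map_zero, map_sub, map_sub, gm_res, gm_res, stMap_gm, stMap_gm, hr, hs a, gm_res, gm_res,
          sub_self])
      obtain ⟨e', he'⟩ := h₁ (W a) AB (hU.mono (hWU a) (hWc a)) (hU.mono (inf_le_left.trans (hWU a)) hABc) inf_le_left e
      let sa : S.X₂.obj.obj (op (W a)) := s a + S.f.hom.app (op (W a)) e'
      obtain ⟨q, hq₁, hq₂⟩ := exists_glue_res S.X₂ sa r fun x hxA hxB => by
        have h1 : gm S.X₂ AB x ⟨hxA, hxB⟩ d = gm S.X₂ B x hxB r - gm S.X₂ (W a) x hxA (s a) := by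
          rw [map_sub, gm_res, gm_res]
        rw [map_add, ← gm_res S.X₂ (inf_le_left : AB ≤ W a) x ⟨hxA, hxB⟩ (S.f.hom.app (op (W a)) e'),
          ← NatTrans.naturality_apply S.f.hom (homOfLE (inf_le_left : AB ≤ W a)).op e', he', he, h1,
          add_sub_cancel]
      refine ⟨q, gm_ext S.X₃ _ _ _ fun x hx => ?_⟩
      rw [← stMap_gm, gm_res]
      rcases hx with hx | hx
      · rw [← gm_res S.X₂ (le_sup_left : W a ≤ W a ⊔ B) x hx q, hq₁, stMap_gm, map_add, hs a, map_add, gm_res,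
          ← stMap_gm, ← stMap_gm]
        have h0 : stMap S.g x (stMap S.f x (gm S.X₁ (W a) x hx e')) = 0 :=
          ConcreteCategory.congr_hom (S.map (stk x)).zero _
        rw [h0, add_zero]
      · rw [← gm_res S.X₂ (le_sup_right : B ≤ W a ⊔ B) x hx q, hq₂, stMap_gm, hr, gm_res]
  have e : F.sup W = U := le_antisymm (Finset.sup_le fun a _ => hWU a) fun y hy => by
    obtain ⟨a, haF, hya⟩ := Set.mem_iUnion₂.1 (hF hy)
    exact (Finset.le_sup (f := W) haF) hya
  obtain ⟨r, hr⟩ := (key F).2 e.le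
  refine ⟨S.X₂.obj.map (homOfLE e.ge).op r, ?_⟩
  rw [NatTrans.naturality_apply, hr]
  exact gm_ext S.X₃ U _ _ fun x hx => by rw [gm_res, gm_res]

/-- Quotients of qc-flasque sheaves by qc-flasque sheaves are qc-flasque. -/
theorem isQsFlasque_quotient {S : ShortComplex (CohTop.Ab X)} (hS : S.ShortExact) (h₁ : IsQsFlasque S.X₁)
    (h₂ : IsQsFlasque S.X₂) : IsQsFlasque S.X₃ := fun U V hU hV h t => by
  obtain ⟨s, rfl⟩ := surjective_app hS h₁ V hV t
  obtain ⟨r, rfl⟩ := h₂ U V hU hV h s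
  exact ⟨S.g.hom.app (op U) r, (NatTrans.naturality_apply S.g.hom (homOfLE h).op r).symm⟩

variable {ι : Type u} [Preorder ι] [IsDirected ι (· ≤ ·)] [Nonempty ι]
  {F : ι ⥤ CohTop.Ab X} {c : Cocone F} (hc : IsColimit c)

open scoped Classical in
include hc in
/-- Surjectivity on quasi-compact opens. -/
theorem exists_preimage (U : Opens X) (hU : QsC U) (t : c.pt.obj.obj (op U)) :
    ∃ (i : ι) (s : (F.obj i).obj.obj (op U)), (c.ι.app i).hom.app (op U) s = t := by
  classical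
  have hx : ∀ x : U, ∃ (i : ι) (W : Opens X) (hW : W ≤ U) (s : (F.obj i).obj.obj (op W)),
      IsCompact (W : Set X) ∧ x.1 ∈ W ∧
        (c.ι.app i).hom.app (op W) s = c.pt.obj.map (homOfLE hW).op t := fun x => by
    obtain ⟨i, b, hb⟩ := exists_stalk_rep hc x.1 (gm c.pt U x.1 x.2 t)
    obtain ⟨O, hxO, s, rfl⟩ := exists_gm_eq (F.obj i) b
    rw [stMap_gm] at hb
    obtain ⟨M, hM, hMO, hMU, hMe⟩ := exists_eq_near c.pt ((c.ι.app i).hom.app (op O) s) t {x.1} (by
      intro y hy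
      obtain rfl : x.1 = y := (show y = x.1 from hy).symm
      exact ⟨hxO, x.2, hb⟩)
    obtain ⟨W, hWc, hxW, hWM⟩ := exists_compact_le (hM rfl : x.1 ∈ M)
    refine ⟨i, W, hWM.trans hMU, (F.obj i).obj.map (homOfLE (hWM.trans hMO)).op s, hWc, hxW,
      gm_ext c.pt W _ _ fun y hy => ?_⟩
    rw [gm_ι, gm_res, ← gm_ι, gm_res]
    exact hMe y _ _ (hWM hy)
  choose i W hWU s hWc hxW hs using hx
  obtain ⟨T, hT⟩ := hU.1.elim_finite_subcover (fun x : U => (W x : Set X)) (fun x => (W x).2)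
    fun y hy => Set.mem_iUnion.2 ⟨⟨y, hy⟩, hxW ⟨y, hy⟩⟩
  obtain ⟨k, hk⟩ := Finset.exists_le (T.image i)
  let r : ∀ a : T, (F.obj k).obj.obj (op (W a)) := fun a =>
    (F.map (homOfLE (hk _ (Finset.mem_image_of_mem i a.2)))).hom.app (op (W a)) (s a)
  have hrt : ∀ a : T, (c.ι.app k).hom.app (op (W a)) (r a) = c.pt.obj.map (homOfLE (hWU a)).op t := fun a => by
    rw [cocone_apply, hs]
  let d : ∀ ab : T × T, (F.obj k).obj.obj (op (W ab.1 ⊓ W ab.2)) := fun ab =>
    (F.obj k).obj.map (homOfLE inf_le_left).op (r ab.1) - (F.obj k).obj.map (homOfLE inf_le_right).op (r ab.2)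
  have hd : ∀ ab : T × T, (c.ι.app k).hom.app (op (W ab.1 ⊓ W ab.2)) (d ab) = 0 := fun ab =>
    gm_ext c.pt _ _ _ fun y hy => by
      rw [gm_ι, map_sub, map_sub, gm_res, gm_res, ← gm_ι, ← gm_ι, hrt, hrt, gm_res, gm_res, sub_self,
        map_zero]
  choose l hkl hl using fun ab : T × T => exists_eq_zero hc (W ab.1 ⊓ W ab.2)
    (hU.2 (W ab.1) (W ab.2) (hWU _) (hWU _) (hWc ab.1) (hWc ab.2)) k (d ab) (hd ab)
  obtain ⟨m, hm⟩ := Finset.exists_le (insert k (Finset.univ.image l))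
  have hkm : k ≤ m := hm k (Finset.mem_insert_self _ _)
  let r' : ∀ a : T, (F.obj m).obj.obj (op (W a)) := fun a => (F.map (homOfLE hkm)).hom.app (op (W a)) (r a)
  have hagree : ∀ (a b : T) (y : X) (ha : y ∈ W a) (hb : y ∈ W b),
      gm (F.obj m) (W a) y ha (r' a) = gm (F.obj m) (W b) y hb (r' b) := fun a b y ha hb => by
    have hlm : l (a, b) ≤ m := hm _ (Finset.mem_insert_of_mem (Finset.mem_image_of_mem _ (Finset.mem_univ _)))
    have h0 : (F.map (homOfLE hkm)).hom.app (op (W a ⊓ W b)) (d (a, b)) = 0 := by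
      rw [← app_comp_apply (hkl (a, b)) hlm, hl (a, b), map_zero]
    have h1 := congrArg (gm (F.obj m) (W a ⊓ W b) y ⟨ha, hb⟩) h0
    rw [map_zero, ← stMap_gm, map_sub, map_sub, gm_res, gm_res, stMap_gm, stMap_gm, sub_eq_zero] at h1
    exact h1
  have hcov : ∀ y : U, ∃ a : T, y.1 ∈ W a := fun y => by
    obtain ⟨a, ha, hy⟩ := Set.mem_iUnion₂.1 (hT y.2)
    exact ⟨⟨a, ha⟩, hy⟩
  choose a ha using hcov
  obtain ⟨q, hq, -⟩ := existsUnique_section (G := F.obj m) U (fun y => gm (F.obj m) (W (a y)) y.1 (ha y) (r' (a y)))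
    fun y => ⟨W (a y), r' (a y), ha y, fun w hw => hagree (a y) (a w) w.1 hw (ha w)⟩
  refine ⟨m, q, gm_ext c.pt U _ _ fun y hy => ?_⟩
  rw [gm_ι, hq ⟨y, hy⟩, ← gm_ι, cocone_apply, hrt, gm_res]

include hc in
theorem isQsFlasque_colimit (hF : ∀ i, IsQsFlasque (F.obj i)) : IsQsFlasque c.pt := fun U V hU hV h t => by
  obtain ⟨i, s, rfl⟩ := exists_preimage hc V hV t
  obtain ⟨r, rfl⟩ := hF i U V hU hV h s
  exact ⟨(c.ι.app i).hom.app (op U) r, (NatTrans.naturality_apply (c.ι.app i).hom (homOfLE h).op r).symm⟩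

end Groth.Agent.RpushColim
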